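import Mathlib
import Cfsg.Agent.Lib.QT311.Main

/-! A common normal subgroup of the Baumann subgroup in a group of even characteristic. -/

set_option autoImplicit false
set_option linter.unusedSectionVars false
set_option linter.style.haveILetI false

namespace H57.QR

open Subgroup H69 H68.Push H68B H59.MP H92.Q3 Cfsg
open scoped commutatorElement Pointwise

universe u

theorem common_bau {G : Type u} [Group G] [Finite G] (hE : IsOfEvenCharacteristic G) (T : Sylow 2 G)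
    {M₀ H N : Subgroup G} (hM : (T : Subgroup G) ≤ M₀) (hH : (T : Subgroup G) ≤ H)
    (hO : pCore 2 H ≠ ⊥) (n2 : ¬ H ≤ N) (n3 : ∀ X, (T : Subgroup G) ≤ X → H ≤ X ∨ X ⊓ H ≤ N)
    (hZ : ¬ H ≤ 𝐂(omegaOneCenter 2 (T : Subgroup G))) (MB : M₀ ≤ 𝐍(𝐁(2, (T : Subgroup G)))) :
    ∃ R₀ : Subgroup G, R₀ ≠ ⊥ ∧ R₀ ≤ 𝐁(2, (T : Subgroup G)) ∧ M₀ ⊔ H ≤ 𝐍(R₀) := by
  by_contra hcon
  have no : ∀ R₀ : Subgroup G, R₀ ≠ ⊥ → R₀ ≤ 𝐁(2, (T : Subgroup G)) → M₀ ≤ 𝐍(R₀) → ¬ H ≤ 𝐍(R₀) :=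
    fun R₀ h1 h2 h3 h4 => hcon ⟨R₀, h1, h2, sup_le h3 h4⟩
  have sH : IsSylowIn 2 (T : Subgroup G) H := isSylowIn_of_le T hH
  have TY : (T : Subgroup G) ≤ 𝐍(H) := hH.trans le_normalizer
  have cY : H70.CharP 2 H := H20.charP_of_evenChar hE T hH hO
  have hι := H.subtype_injective
  have eR : ((T : Subgroup G).subgroupOf H).map H.subtype = T := map_subgroupOf_eq_of_le hH
  have c : Cg 2 ((T : Subgroup G).subgroupOf H) (N.subgroupOf H) := by
    refine cg_of_le sH.subgroupOf_top (H70.charP_iff.1 cY) (sup_le (fun g hg => ?_)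
      (iSup_le fun C => ?_))
    · refine (n3 _ (le_cent_oc _)).resolve_left hZ ⟨?_, g.2⟩
      rw [← eR, ← map_oc hι]
      exact ((map_subtype_centralizer _).le ⟨g, hg, rfl⟩).2
    have h1 : H24.IsCharIn (C.1.map H.subtype) 𝐁(2, (T : Subgroup G)) := by
      have := H24.IsCharIn.map (f := H.subtype) (by rw [ker_subtype, bot_inf_eq]) ⟨C.2.1, C.2.2.2⟩
      rwa [map_bau hι, eR] at this
    have h2 := MB.trans h1.normalizer_le
    have h3 := (n3 _ (hM.trans h2)).resolve_left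
      (no _ (fun e => C.2.2.1 ((map_eq_bot_iff_of_injective _ hι).1 e)) h1.1 h2)
    intro g hg
    exact h3 ⟨le_normalizer_map _ ⟨g, hg, rfl⟩, g.2⟩
  obtain ⟨q, L, -, l⟩ := c.exists_pu (H := ⊤) le_top fun e => n2 fun x hx =>
    e (mem_top (⟨x, hx⟩ : H))
  have s := (sb_of c l).map hι
  rw [map_bau hι, eR] at s
  set K := (𝐑(2, L)).map H.subtype with hK
  set W := (𝐖(2, 𝐑(2, L))).map H.subtype with hW
  have gen : ∀ X, (T : Subgroup G) ≤ X → K ≤ X → H ≤ X := fun X h1 h2 =>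
    (n3 X h1).resolve_right fun e => l.not_res_le_M fun x hx => e ⟨h2 ⟨x, hx, rfl⟩, x.2⟩
  by_cases hy : ∀ y ∈ M₀, W ^ᶜ y ≤ 𝐂(W)
  · have h1 : ncl W M₀ ≤ 𝐁(2, (T : Subgroup G)) ⊓ 𝐂(W) :=
      ncl_le_iff.2 fun y h => le_inf (s.cj (MB h)).WB (hy y h)
    refine no (ncl W M₀) (fun e => s.ex ((le_ncl W M₀).trans (e.le.trans bot_le)))
      (h1.trans inf_le_left) (le_normalizer_ncl _ _)
      (gen _ (hM.trans (le_normalizer_ncl _ _)) (le_normalizer_of_commutator_le_left ?_))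
    refine (commutator_mono h1 le_rfl).trans (le_trans ?_ (le_ncl W M₀))
    rw [← eR, ← map_bau hι, hW, hK, ← map_inf_cent hι, ← map_commutator, c.inf_cW l]
    exact map_mono (c.QK l)
  push Not at hy
  obtain ⟨y, hy, a⟩ := hy
  have hV : W ≤ omegaOneCenter 2 (pCoreOf 2 H) := by
    rw [pCoreOf, ← map_oc hι]
    exact map_mono (c.cx l).W_le_V
  obtain ⟨D, d1, d2, d3, d4, d5⟩ := s.main MB hM (fun y hy ⟨k, hk⟩ => by
      obtain ⟨g, hg, h⟩ := (isSylowIn_of_le T hM).exists_cj_le (H70.isPGroup_zpowers hk)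
        (zpowers_le_of_mem hy)
      exact ⟨g, hg, h (cj_mem g (mem_zpowers y))⟩)
    (fun r hr => (cj_le_of_mem_normalizer hV
      (le_normalizer_oc (le_normalizer_pCoreOf_of_le TY) hr)).trans
      ((ea_le (oc_ea _)).trans (centralizer_le hV))) hy a
  have DT : D ≤ (T : Subgroup G) := d1.trans (bau_le _)
  have HD : H ≤ 𝐍(D) := gen _ d3 ((cent_symm d4).trans (centralizer_le_normalizer _))
  have cD : H70.CharP 2 𝐍(D) := H20.charP_of_evenChar hE T d3 (pCoreOf_ne_bot_iff.1 fun e =>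
    d2 (le_bot_iff.1 (e ▸ H1.le_pCoreOf le_normalizer le_rfl (T.isPGroup'.to_le DT))))
  set P := pCoreOf 2 𝐍(D) with hP
  have pP : IsPGroup 2 P := H1.isPGroup_pCoreOf _
  have nP : 𝐍(D) ≤ 𝐍(P) := H1.le_normalizer_pCoreOf _
  have PH : P ≤ H := (H1.pCoreOf_le_sylow T d3).trans hH
  have WP : W ≤ P := by
    haveI hn : (P.comap H.subtype).Normal := normal_subgroupOf_of_le_normalizer (HD.trans nP)
    refine map_le_iff_le_comap.2 (W_le_of c l (H1.le_pCore pP.comap_subtype)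
      (le_top.trans (normalizer_eq_top _).ge) fun e => ?_)
    refine l.not_res_le_M (res_le_iff.2 fun g hg hc => ?_)
    have hc' : (orderOf (g : G)).Coprime 2 := by rwa [Subgroup.orderOf_coe]
    have : (g : G) = 1 := cD.eq_one (HD g.2) hc' fun x hx => mem_centralizer_singleton_iff.2
      (congrArg Subtype.val (e (show (⟨x, PH hx⟩ : H) ∈ P.subgroupOf H from hx) g
        (mem_res hg hc))).symm
    rw [show g = 1 from Subtype.ext this]
    exact one_mem _
  exact a (cent_symm ((le_inf WP s.WB).trans ((s.cj (MB hy)).core P pP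
    (((cent_symm d5).trans (centralizer_le_normalizer _)).trans nP)
    ((bau_le _).trans (d3.trans nP)))))

end H57.QR
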