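import Mathlib
import Cfsg.Agent.Lib.QRC.Short
import Cfsg.Agent.Lib.QRC.Common

/-! The qrc-lemma in groups of even characteristic. -/

set_option autoImplicit false
set_option linter.unusedSectionVars false
set_option linter.style.haveILetI false

namespace H57.QR

open Subgroup H69 H68B H59.MP Cfsg
open scoped commutatorElement Pointwise

universe u

variable {G : Type u} [Group G]

theorem sub_norm {H X Y : Subgroup G} (h : H ⊓ X ≤ 𝐍(Y)) :
    X.subgroupOf H ≤ 𝐍(Y.subgroupOf H) := fun g hg =>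
  le_normalizer_comap H.subtype (h ⟨g.2, hg⟩)

theorem sub_cent {H X Y : Subgroup G} (hY : Y ≤ H) :
    X.subgroupOf H ≤ 𝐂(Y.subgroupOf H) ↔ H ⊓ X ≤ 𝐂(Y) := by
  rw [← map_subtype_le_iff, map_subtype_centralizer, map_subgroupOf_eq_of_le hY,
    subgroupOf_map_subtype, le_inf_iff, and_iff_right inf_le_right, inf_comm]

variable [Finite G]

/-- `NQ` passes to an overgroup with the same centralizer in `T`. -/
theorem NQ.up {p : ℕ} [Fact p.Prime] {T V Y : Subgroup G} (h : NQ p V) (hT : IsSylowIn p T ⊤)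
    (h1 : T ≤ 𝐍(V)) (h2 : T ≤ 𝐍(Y)) (h3 : V ≤ Y) (h4 : T ⊓ 𝐂(V) ≤ 𝐂(Y)) : NQ p Y := by
  refine nq_of_sylow hT h2 fun B b1 b2 b3 => ?_
  have e : ix B Y = ix B V := ri_congr (le_antisymm (inf_le_inf_left _ (centralizer_anti h3))
    (le_inf inf_le_left ((inf_le_inf_right _ b1).trans h4)))
  rw [e]
  exact (h B (hT.isP.to_le b1) (b1.trans h1) (le_bot_iff.1 ((commutator_mono
    (commutator_mono h3 le_rfl) le_rfl).trans b2.le)) fun e => b3 ((le_inf b1 e).trans h4)).trans_le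
    (ix_mono_left B h3)

theorem qrc (hE : IsOfEvenCharacteristic G) (T : Sylow 2 G) {M M₀ H N V R : Subgroup G}
    (hM : (T : Subgroup G) ≤ M₀) (hH : (T : Subgroup G) ≤ H) (hO : pCore 2 H ≠ ⊥) (n2 : ¬ H ≤ M)
    (n3 : ∀ X, (T : Subgroup G) ≤ X → H ≤ X ∨ X ⊓ H ≤ M) (hV : IsElementaryAbelian 2 V)
    (hVT : V ≤ T) (hMV : M₀ ≤ 𝐍(V)) (hR : (T : Subgroup G) ⊓ 𝐂(V) = R) (hMR : M₀ ≤ 𝐍(R))
    (hN : H ⊓ M ≤ 𝐍(N)) (hTN : (T : Subgroup G) ⊓ N = R) (hq : NQ 2 V)
    (no : ∀ R₀, R₀ ≠ ⊥ → R₀ ≤ R → M₀ ≤ 𝐍(R₀) → ¬ H ≤ 𝐍(R₀)) :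
    ¬ V ≤ pCoreOf 2 H ∧ ∃ A ≤ (T : Subgroup G), IsElementaryAbelian 2 A ∧ ¬ A ≤ 𝐂(V) ∧
      ⁅⁅⁅V, A⁆, A⁆, A⁆ = ⊥ ∧ ix V A ≤ ix A V ^ 2 := by
  have hT := isSylowIn_top T
  have sH : IsSylowIn 2 (T : Subgroup G) H := isSylowIn_of_le T hH
  have hι := H.subtype_injective
  have hRT : R ≤ T := hR ▸ inf_le_left
  have hRV : R ≤ 𝐂(V) := hR ▸ inf_le_right
  have hJ := hq.J_le hT.isP hV hVT (hM.trans hMV)
  have hB : baumannSubgroupOf 2 (T : Subgroup G) ≤ R := hR ▸ le_inf (bau_le _)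
    ((bau_le_cent _).trans (centralizer_anti (le_ocJ hV hVT (le_centralizer_comm.1 hJ))))
  have MB : M₀ ≤ 𝐍(baumannSubgroupOf 2 (T : Subgroup G)) :=
    bau_eq_of_le hB hRT ▸ hMR.trans (normalizer_le_normalizer_bau R)
  have hZ : H ≤ 𝐂(omegaOneCenter 2 (T : Subgroup G)) := by
    by_contra e
    obtain ⟨R₀, r1, r2, r3⟩ := common_bau hE T hM hH hO n2 n3 e MB
    exact no R₀ r1 (r2.trans hB) (le_sup_left.trans r3) (le_sup_right.trans r3)
  have hT1 : (T : Subgroup G) ≠ ⊥ := fun e =>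
    pCoreOf_ne_bot_iff.2 hO (le_bot_iff.1 (sH.pCoreOf_le.trans e.le))
  have nJ := no _ (H24.thompsonSubgroupOf_ne_bot (dvd_card_of_ne_bot hT.isP hT1))
    ((J_le_bau _).trans hB) (MB.trans (normalizer_bau_le_J _))
  have eT : ((T : Subgroup G).subgroupOf H).map H.subtype = T := map_subgroupOf_eq_of_le hH
  have hmax : ∀ K, (T : Subgroup G).subgroupOf H ≤ K → K ≠ ⊤ → K ≤ M.subgroupOf H := fun K h1 h2 =>
    le_subgroupOf_iff.2 ((le_inf le_rfl (map_subtype_le K)).trans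
      ((n3 _ (eT ▸ map_mono h1)).resolve_left fun e =>
        h2 (map_subtype_eq_self_iff.1 (le_antisymm (map_subtype_le K) e))))
  have nT : ¬ ⊤ ≤ 𝐍((T : Subgroup G).subgroupOf H) := fun e => nJ (by
    have := normal_iff_le_normalizer_map.1 (normal_iff_top_le_normalizer.2 e)
    rw [eT] at this
    exact this.trans (H24.normalizer_le_normalizer_thompsonSubgroupOf _))
  have pm : PM 2 ((T : Subgroup G).subgroupOf H) (M.subgroupOf H) :=
    ⟨sH.subgroupOf_top, hmax _ le_rfl fun e => nT (e ▸ le_normalizer),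
      fun e => n2 (subgroupOf_eq_top.1 e), hmax, nT⟩
  have hVR : V ≤ R := hR ▸ le_inf hVT (H24.EA.le_centralizer hV)
  have nV : ¬ H ≤ 𝐍(V) := by
    by_cases e : V = ⊥
    · rw [e, centralizer_bot, inf_top_eq] at hR
      exact absurd (hZ.trans (centralizer_le_normalizer _)) (no _
        (H24.omegaOne_center_ne_bot hT.isP hT1) (hR ▸ oc_le _) (le_normalizer_oc (hR ▸ hMR)))
    · exact no V e hVR hMV
  have hVO : ¬ V ≤ pCoreOf 2 H := fun e => by
    have eV : (V.subgroupOf H).map H.subtype = V := map_subgroupOf_eq_of_le (hVT.trans hH)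
    refine short pm (H24.EA.subgroupOf hV H) ((subgroupOf_le_iff (hVT.trans hH)).2 e)
      (sub_norm (inf_le_right.trans (hM.trans hMV))) (fun e' => nV ?_)
      (NQ.comap hι (eV.symm ▸ hq)) (fun e' => nJ ?_) ?_
    · have := normal_iff_le_normalizer_map.1 (normal_iff_top_le_normalizer.2 e')
      rwa [eV] at this
    · have := map_mono (f := H.subtype) e'
      rw [H24.map_thompsonSubgroupOf hι, eT] at this
      rw [← H24.thompsonSubgroupOf_eq_of_le this sH.pCoreOf_le]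
      exact (H1.le_normalizer_pCoreOf H).trans (H24.normalizer_le_normalizer_thompsonSubgroupOf _)
    · rw [← map_subtype_le_iff, map_subtype_centralizer, map_oc hι, eT, map_subtype_top]
      exact le_inf le_rfl hZ
  refine ⟨hVO, ?_⟩
  have hVY : V ≤ omegaOneCenter 2 R := le_oc hV hVR (le_centralizer_comm.1 hRV)
  have hYH : omegaOneCenter 2 R ≤ H := (oc_le R).trans (hRT.trans hH)
  have eY := map_subgroupOf_eq_of_le hYH
  have eR := map_subgroupOf_eq_of_le (hRT.trans hH)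
  have hC : (T : Subgroup G) ⊓ 𝐂(V) ≤ 𝐂(omegaOneCenter 2 R) := hR ▸ le_cent_oc R
  have hY := H24.EA.subgroupOf (oc_ea (p := 2) R) H
  obtain ⟨A, a1, a2, a3, a4, a5⟩ := tall (Y := (omegaOneCenter 2 R).subgroupOf H)
    (R := R.subgroupOf H) pm.syl
    (H70.charP_top_iff.2 (H70.charP_iff.1 (H20.charP_of_evenChar hE T hH hO))) hmax (sub_norm hN)
    (by rw [← hTN]; rfl) (sub_norm (inf_le_right.trans (hM.trans hMR))) (comap_mono (oc_le R))
    ((sub_cent hYH).2 (inf_le_right.trans (le_cent_oc R)))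
    (fun g hg => le_normalizer_comap H.subtype (le_normalizer_oc le_rfl
      (eR ▸ le_normalizer_map H.subtype ⟨g, hg, rfl⟩)))
    (fun g hg => hR.le ⟨hg.1, centralizer_anti hVY
      (eY ▸ ((map_subtype_centralizer _).le ⟨g, hg.2, rfl⟩).2)⟩) hY
    ((NQ.comap hι (eY.symm ▸ hq.up hT (hM.trans hMV) (le_normalizer_oc (hM.trans hMR)) hVY hC)).asym
      hY) fun e => hVO (hVY.trans ((subgroupOf_le_iff hYH).1 (H1.pCoreOf_top (G := H) ▸ e)))
  have b1 : A.map H.subtype ≤ T := eT ▸ map_mono a1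
  have e1 : ix (A.map H.subtype) (omegaOneCenter 2 R) = ix (A.map H.subtype) V :=
    ri_congr (le_antisymm (inf_le_inf_left _ (centralizer_anti hVY))
      (le_inf inf_le_left ((inf_le_inf_right _ b1).trans hC)))
  rw [← ix_map hι, ← ix_map hι A, eY, e1] at a5
  refine ⟨_, b1, H24.EA.map a2 _, fun e => a3 ?_, le_bot_iff.1 ?_, (ix_mono_left _ hVY).trans a5⟩
  · rw [← ix_eq_one, ← ix_map hι, eY, e1, ix_eq_one]
    exact e
  · have := congrArg (map H.subtype) a4
    rw [map_commutator, map_commutator, map_commutator, eY, Subgroup.map_bot] at this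
    exact (commutator_mono (commutator_mono (commutator_mono hVY le_rfl) le_rfl) le_rfl).trans this.le

/-- `O₂(M₀)` is the centralizer in `T` of `O²(M₀) / O₂(O²(M₀))`. -/
theorem inf_rc {p : ℕ} [Fact p.Prime] {T L : Subgroup G} (hT : IsSylowIn p T L) :
    T ⊓ H2.relCentralizer 𝐑(p, L) (pCoreOf p 𝐑(p, L)) = pCoreOf p L := by
  have n1 := le_normalizer_res (p := p) L
  have n2 := le_normalizer_pCoreOf_of_le (p := p) n1
  have n3 := H1.le_normalizer_pCoreOf (p := p) L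
  have h1 : pCoreOf p L ≤ T ⊓ H2.relCentralizer 𝐑(p, L) (pCoreOf p 𝐑(p, L)) :=
    le_inf hT.pCoreOf_le (H2.le_relCentralizer_iff.2 ⟨(H1.pCoreOf_le L).trans n2,
      (le_inf (commutator_le_left_of_le_normalizer ((res_le L).trans n3))
        (commutator_le_right_of_le_normalizer ((H1.pCoreOf_le L).trans n1))).trans
        (inf_le_pCoreOf (H1.isPGroup_pCoreOf L) ((res_le L).trans n3))⟩)
  refine le_antisymm (H1.le_pCoreOf (inf_le_left.trans hT.le) ?_ (hT.isP.to_le inf_le_left)) h1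
  conv_lhs => rw [← hT.res_sup]
  refine sup_le (le_normalizer_of_commutator_le_left
    (((H2.le_relCentralizer_iff.1 inf_le_right).2.trans ?_).trans h1))
    (le_normalizer_inf le_normalizer (norm_rc (hT.le.trans n1) (hT.le.trans n2)))
  exact H1.le_pCoreOf ((H1.pCoreOf_le _).trans (res_le L)) n2 (H1.isPGroup_pCoreOf _)

end H57.QR
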